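import Mathlib.RingTheory.GradedAlgebra.HomogeneousLocalization
import Mathlib.RingTheory.RingHom.Flat
import Mathlib.RingTheory.Flat.Stability

/-!
# Degree zero parts of localisations of flat graded algebras are flat
-/

set_option autoImplicit false
set_option linter.all false
set_option backward.isDefEq.respectTransparency false

universe u

open HomogeneousLocalization DirectSum

noncomputable section

namespace GrothLib.ProjThick9

variable {A S : Type u} [CommRing A] [CommRing S] [Algebra A S] (𝒜 : ℕ → Submodule A S) [GradedAlgebra 𝒜]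
  {x : S} (hx : x ∈ 𝒜 1)

/-- `a ↦ a / x ^ i` in degree `i`. -/
def fracHom (i : ℕ) : 𝒜 i →+ Away 𝒜 x where
  toFun a := Away.mk 𝒜 hx i a.1 (by simpa using a.2)
  map_zero' := val_injective _ (by simp [Localization.mk_zero])
  map_add' a b := val_injective _ (by simp [Localization.add_mk_self])

/-- Dehomogenisation. -/
def deh : S →+* Away 𝒜 x :=
  (DirectSum.toSemiring (fracHom 𝒜 hx) (by
      refine val_injective _ ?_
      show (Away.mk 𝒜 hx 0 _ _).val = _
      rw [Away.val_mk, val_one, ← Localization.mk_one]
      congr 1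
      exact Subtype.ext (pow_zero x))
    (fun {i j} ai aj => by
      refine val_injective _ ?_
      show (Away.mk 𝒜 hx _ _ _).val = (Away.mk 𝒜 hx i _ _ * Away.mk 𝒜 hx j _ _).val
      simp only [Away.val_mk, val_mul, Localization.mk_mul]
      congr 1
      exact Subtype.ext (pow_add x i j))).comp (DirectSum.decomposeRingEquiv 𝒜).toRingHom

theorem deh_of_mem {i : ℕ} {a : S} (ha : a ∈ 𝒜 i) : deh 𝒜 hx a = Away.mk 𝒜 hx i a (by simpa using ha) := by
  simp only [deh, RingHom.comp_apply]
  rw [show (DirectSum.decomposeRingEquiv 𝒜).toRingHom a = DirectSum.decompose 𝒜 a from rfl,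
    DirectSum.decompose_of_mem 𝒜 ha, DirectSum.toSemiring_of]
  rfl

theorem deh_self : deh 𝒜 hx x = 1 := by
  rw [deh_of_mem 𝒜 hx hx]
  refine val_injective _ ?_
  rw [Away.val_mk, val_one, ← Localization.mk_one, Localization.mk_eq_mk_iff, Localization.r_iff_exists]
  exact ⟨1, by simp⟩

include hx in
/-- The degree zero part of the localisation of a flat graded algebra is flat. -/
theorem flat_away [Module.Flat A S] :
    ((fromZeroRingHom 𝒜 (Submonoid.powers x)).comp (algebraMap A (𝒜 0))).Flat := by
  let φ : A →+* Away 𝒜 x := (fromZeroRingHom 𝒜 (Submonoid.powers x)).comp (algebraMap A (𝒜 0))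
  letI := φ.toAlgebra
  let L := Localization.Away x
  let ρ : L →+* Away 𝒜 x := IsLocalization.Away.lift x (g := deh 𝒜 hx) (by rw [deh_self]; exact isUnit_one)
  have hρ : ∀ a : S, ρ (algebraMap S L a) = deh 𝒜 hx a := fun a => IsLocalization.Away.lift_eq x _ a
  have hφ : ∀ a : A, deh 𝒜 hx (algebraMap A S a) = φ a := fun a => by
    rw [deh_of_mem 𝒜 hx (SetLike.algebraMap_mem_graded 𝒜 a)]
    refine val_injective _ ?_
    rw [Away.val_mk]
    show Localization.mk _ _ = (φ a).val
    simp only [φ, RingHom.comp_apply]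
    show _ = Localization.mk ((algebraMap A (𝒜 0) a : S)) 1
    congr 1
    exact Subtype.ext (pow_zero x)
  have hval : ∀ a : A, algebraMap A L a = (φ a).val := fun a => by
    rw [IsScalarTower.algebraMap_apply A S L, ← Localization.mk_one_eq_algebraMap]
    rfl
  haveI : Module.Flat A L := Module.Flat.trans A S L
  let i : Away 𝒜 x →ₗ[A] L :=
    { toFun := HomogeneousLocalization.val
      map_add' := val_add
      map_smul' := fun a z => by
        rw [RingHom.id_apply, Algebra.smul_def, Algebra.smul_def, val_mul, RingHom.algebraMap_toAlgebra, hval] }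
  let r : L →ₗ[A] Away 𝒜 x :=
    { toFun := ρ
      map_add' := map_add ρ
      map_smul' := fun a z => by
        rw [RingHom.id_apply, Algebra.smul_def, Algebra.smul_def, map_mul, RingHom.algebraMap_toAlgebra,
          IsScalarTower.algebraMap_apply A S L, hρ, hφ] }
  show Module.Flat A (Away 𝒜 x)
  refine Module.Flat.of_retract i r (LinearMap.ext fun z => ?_)
  obtain ⟨n, a, ha, rfl⟩ := Away.mk_surjective 𝒜 hx z
  show ρ (Away.mk 𝒜 hx n a ha).val = _
  have ha' : a ∈ 𝒜 n := by simpa using ha
  have h1 : (Away.mk 𝒜 hx n a ha).val * algebraMap S L (x ^ n) = algebraMap S L a := by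
    rw [Away.val_mk, Localization.mk_eq_mk']
    exact IsLocalization.mk'_spec L a _
  have h2 := congrArg ρ h1
  rw [map_mul, hρ, hρ, map_pow, deh_self, one_pow, mul_one, deh_of_mem 𝒜 hx ha'] at h2
  exact h2

end GrothLib.ProjThick9
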