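import Groth.Agent.Lib.GradedAlg.Quotient
import Mathlib.RingTheory.LocalRing.Module
import Mathlib.RingTheory.GradedAlgebra.HomogeneousLocalization
import Mathlib.RingTheory.Flat.Stability
import Mathlib.LinearAlgebra.TensorProduct.Quotient

/-!
# Quotients of graded algebras by sequences that are regular on the closed fibre
-/

set_option autoImplicit false
set_option linter.all false
set_option backward.isDefEq.respectTransparency false
set_option maxHeartbeats 800000

universe u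

open IsLocalRing DirectSum
open scoped TensorProduct

noncomputable section

namespace GrothLib.ProjThick9

open GrothLib.GradedAlg

variable {A S : Type u} [CommRing A] [CommRing S] [Algebra A S] {𝒜 : ℕ → Submodule A S} [GradedAlgebra 𝒜]

/-- The projection to a piece. -/
def pr (𝒜 : ℕ → Submodule A S) [GradedAlgebra 𝒜] (d : ℕ) : S →ₗ[A] 𝒜 d :=
  (DirectSum.component A ℕ (fun i => 𝒜 i) d).comp (DirectSum.decomposeLinearEquiv 𝒜).toLinearMap

theorem pr_coe (d : ℕ) (x : 𝒜 d) : pr 𝒜 d (x : S) = x := by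
  show DirectSum.decompose 𝒜 (x : S) d = x
  rw [DirectSum.decompose_coe, DirectSum.of_eq_same]

/-- An element of a piece in `m·S` is in `m` times the piece. -/
theorem mem_smul_piece (m : Ideal A) (d : ℕ) (x : 𝒜 d) (h : (x : S) ∈ m • (⊤ : Submodule A S)) :
    x ∈ m • (⊤ : Submodule A (𝒜 d)) := by
  have h1 : pr 𝒜 d (x : S) ∈ (m • (⊤ : Submodule A S)).map (pr 𝒜 d) := Submodule.mem_map_of_mem h
  rw [pr_coe, Submodule.map_smul''] at h1
  exact Submodule.smul_mono le_rfl le_top h1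

/-- The map between the pieces of quotients. -/
def piMap {I I' : HomogeneousIdeal 𝒜} (h : I.toIdeal ≤ I'.toIdeal) (n : ℕ) : qgr I n →ₗ[A] qgr I' n :=
  (Ideal.Quotient.factorₐ A h).toLinearMap.restrict fun x hx => by
    obtain ⟨a, ha, rfl⟩ := (mem_qgr_iff I _ _).mp hx
    exact (mem_qgr_iff I' _ _).mpr ⟨a, ha, (Ideal.Quotient.factor_mk h a).symm⟩

theorem piMap_surjective {I I' : HomogeneousIdeal 𝒜} (h : I.toIdeal ≤ I'.toIdeal) (n : ℕ) :
    Function.Surjective (piMap h n) := by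
  rintro ⟨y, hy⟩
  obtain ⟨a, ha, rfl⟩ := (mem_qgr_iff I' _ _).mp hy
  exact ⟨⟨Ideal.Quotient.mk _ a, (mem_qgr_iff I _ _).mpr ⟨a, ha, rfl⟩⟩, Subtype.ext (Ideal.Quotient.factor_mk h a)⟩

variable [IsLocalRing A]

theorem map_maximal_eq (T : Type u) [CommRing T] [Algebra A T] (x : T) :
    x ∈ (maximalIdeal A).map (algebraMap A T) ↔ x ∈ maximalIdeal A • (⊤ : Submodule A T) := by
  rw [Ideal.smul_top_eq_map]
  rfl

/-- One step: dividing by a form which is regular modulo the maximal ideal. -/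
theorem step (I I' : HomogeneousIdeal 𝒜) {e : ℕ} {f : S} (hf : f ∈ 𝒜 e)
    (hI' : I'.toIdeal = I.toIdeal ⊔ Ideal.span {f})
    (hreg : ∀ x : S, f * x ∈ I.toIdeal ⊔ (maximalIdeal A).map (algebraMap A S) →
      x ∈ I.toIdeal ⊔ (maximalIdeal A).map (algebraMap A S))
    (hI : ∀ d, Module.Finite A (qgr I d) ∧ Module.Free A (qgr I d)) :
    ∀ d, Module.Finite A (qgr I' d) ∧ Module.Free A (qgr I' d) := by
  classical
  have hle : I.toIdeal ≤ I'.toIdeal := hI' ▸ le_sup_left
  have hmem : ∀ x : S, Ideal.Quotient.mk I.toIdeal x ∈ maximalIdeal A • (⊤ : Submodule A (S ⧸ I.toIdeal)) ↔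
      x ∈ I.toIdeal ⊔ (maximalIdeal A).map (algebraMap A S) := fun x => by
    rw [← map_maximal_eq, IsScalarTower.algebraMap_eq A S (S ⧸ I.toIdeal), ← Ideal.map_map, Ideal.Quotient.algebraMap_eq,
      Ideal.mem_quotient_iff_mem_sup, sup_comm]
  intro n
  haveI := (hI n).1
  haveI := (hI n).2
  haveI hfin : Module.Finite A (qgr I' n) := Module.Finite.of_surjective _ (piMap_surjective hle n)
  refine ⟨hfin, ?_⟩
  have hspl : ∀ y : qgr I n, piMap hle n y = 0 →
      (n < e ∧ y = 0) ∨ (e ≤ n ∧ ∃ c ∈ 𝒜 (n - e), (y : S ⧸ I.toIdeal) = Ideal.Quotient.mk _ (f * c)) := by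
    intro y hy
    obtain ⟨a, ha, hay⟩ := (mem_qgr_iff I _ _).mp y.2
    have h0 : a ∈ I.toIdeal ⊔ Ideal.span {f} := by
      rw [← hI', ← Ideal.Quotient.eq_zero_iff_mem, ← Ideal.Quotient.factor_mk hle a, hay]
      exact congrArg Subtype.val hy
    obtain ⟨i, hi, z, hz, hiz⟩ := Submodule.mem_sup.mp h0
    obtain ⟨c, hc⟩ := Ideal.mem_span_singleton.mp hz
    have e0 : a = (decompose 𝒜 i n : S) + (decompose 𝒜 (f * c) n : S) := by
      conv_lhs => rw [← decompose_of_mem_same 𝒜 ha, ← hiz, hc, decompose_add]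
      rfl
    have hin : Ideal.Quotient.mk I.toIdeal (decompose 𝒜 i n : S) = 0 :=
      Ideal.Quotient.eq_zero_iff_mem.2 (I.isHomogeneous n hi)
    rcases Nat.lt_or_ge n e with h | h
    · refine Or.inl ⟨h, Subtype.ext ?_⟩
      rw [← hay, e0, map_add, hin, coe_decompose_mul_of_left_mem_of_not_le 𝒜 hf (Nat.not_le.2 h), map_zero, zero_add]
      rfl
    · refine Or.inr ⟨h, _, (decompose 𝒜 c (n - e)).2, ?_⟩
      rw [← hay, e0, map_add, hin, coe_decompose_mul_of_left_mem_of_le 𝒜 hf h, zero_add]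
  rcases Nat.lt_or_ge n e with h | h
  · refine Module.Free.of_equiv (LinearEquiv.ofBijective (piMap hle n) ⟨?_, piMap_surjective hle n⟩)
    rw [injective_iff_map_eq_zero]
    exact fun y hy => (hspl y hy).elim And.right fun h' => absurd h'.1 (Nat.not_le.2 h)
  obtain ⟨d, rfl⟩ : ∃ d, n = d + e := ⟨n - e, (Nat.sub_add_cancel h).symm⟩
  haveI := (hI d).1
  let μ : qgr I d →ₗ[A] qgr I (d + e) :=
    (LinearMap.mulLeft A (Ideal.Quotient.mk I.toIdeal f)).restrict fun x hx => by
      obtain ⟨a, ha, rfl⟩ := (mem_qgr_iff I _ _).mp hx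
      exact (mem_qgr_iff I _ _).mpr ⟨f * a, by rw [add_comm]; exact SetLike.mul_mem_graded hf ha, map_mul _ _ _⟩
  have hμ : ∀ y, ((μ y : qgr I (d + e)) : S ⧸ I.toIdeal) = Ideal.Quotient.mk _ f * (y : S ⧸ I.toIdeal) := fun y => rfl
  have hinj : Function.Injective (μ.lTensor (ResidueField A)) := by
    rw [injective_iff_map_eq_zero]
    intro w hw
    obtain ⟨y, rfl⟩ : ∃ y, (1 : ResidueField A) ⊗ₜ[A] y = w := by
      clear hw
      induction w using TensorProduct.induction_on with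
      | zero => exact ⟨0, TensorProduct.tmul_zero _ _⟩
      | tmul c y =>
        obtain ⟨a, rfl⟩ := IsLocalRing.residue_surjective c
        refine ⟨a • y, ?_⟩
        rw [TensorProduct.tmul_smul, TensorProduct.smul_tmul', Algebra.smul_def, mul_one]
        rfl
      | add u v hu hv =>
        obtain ⟨y, hy⟩ := hu
        obtain ⟨z, hz⟩ := hv
        exact ⟨y + z, by rw [TensorProduct.tmul_add, hy, hz]⟩
    rw [LinearMap.lTensor_tmul] at hw
    have h1 : μ y ∈ maximalIdeal A • (⊤ : Submodule A (qgr I (d + e))) := by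
      have := congrArg (TensorProduct.quotTensorEquivQuotSMul (qgr I (d + e)) (maximalIdeal A)) hw
      rw [map_zero] at this
      exact (Submodule.Quotient.mk_eq_zero _).1 ((TensorProduct.quotTensorEquivQuotSMul_mk_one_tmul _ _).symm.trans this)
    have h2 : (y : S ⧸ I.toIdeal) ∈ maximalIdeal A • (⊤ : Submodule A (S ⧸ I.toIdeal)) := by
      have h3 := Submodule.mem_map_of_mem (f := (qgr I (d + e)).subtype) h1
      rw [Submodule.map_smul''] at h3
      have h4 : ((μ y : qgr I (d + e)) : S ⧸ I.toIdeal) ∈ maximalIdeal A • (⊤ : Submodule A (S ⧸ I.toIdeal)) :=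
        Submodule.smul_mono le_rfl le_top h3
      obtain ⟨a, ha, hay⟩ := (mem_qgr_iff I _ _).mp y.2
      rw [hμ, ← hay, ← map_mul, hmem] at h4
      rw [← hay, hmem]
      exact hreg a h4
    have h5 := mem_smul_piece (𝒜 := qgr I) (maximalIdeal A) d y h2
    apply (TensorProduct.quotTensorEquivQuotSMul (qgr I d) (maximalIdeal A)).injective
    rw [map_zero]
    exact (TensorProduct.quotTensorEquivQuotSMul_mk_one_tmul _ _).trans ((Submodule.Quotient.mk_eq_zero _).2 h5)
  obtain ⟨r, hr⟩ := (IsLocalRing.split_injective_iff_lTensor_residueField_injective μ).2 hinj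
  let θ : qgr I (d + e) →ₗ[A] qgr I (d + e) := LinearMap.id - μ.comp r
  have hπμ : ∀ y, piMap hle (d + e) (μ y) = 0 := fun y => Subtype.ext (by
    obtain ⟨a, ha, hay⟩ := (mem_qgr_iff I _ _).mp y.2
    show Ideal.Quotient.factor hle ((μ y : qgr I (d + e)) : S ⧸ I.toIdeal) = 0
    rw [hμ, ← hay, ← map_mul, Ideal.Quotient.factor_mk, Ideal.Quotient.eq_zero_iff_mem, hI']
    exact Ideal.mem_sup_right (Ideal.mul_mem_right _ _ (Ideal.mem_span_singleton_self f)))
  have hθ : LinearMap.ker (piMap hle (d + e)) ≤ LinearMap.ker θ := fun y hy => by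
    rcases hspl y hy with ⟨h', -⟩ | ⟨-, c, hc, hyc⟩
    · omega
    rw [Nat.add_sub_cancel] at hc
    have hy' : y = μ ⟨Ideal.Quotient.mk _ c, (mem_qgr_iff I _ _).mpr ⟨c, hc, rfl⟩⟩ :=
      Subtype.ext (by rw [hμ, hyc, map_mul])
    rw [LinearMap.mem_ker, hy']
    simp only [θ, LinearMap.sub_apply, LinearMap.id_apply, LinearMap.comp_apply]
    rw [← LinearMap.comp_apply r μ, hr, LinearMap.id_apply, sub_self]
  let sec : qgr I' (d + e) →ₗ[A] qgr I (d + e) :=
    (Submodule.liftQ _ θ hθ).comp (LinearMap.quotKerEquivOfSurjective _ (piMap_surjective hle (d + e))).symm.toLinearMap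
  have hsec : (piMap hle (d + e)).comp sec = LinearMap.id := by
    refine LinearMap.ext fun z => ?_
    obtain ⟨y, rfl⟩ := piMap_surjective hle (d + e) z
    have h6 : (LinearMap.quotKerEquivOfSurjective _ (piMap_surjective hle (d + e))).symm (piMap hle (d + e) y) =
        Submodule.Quotient.mk y := by
      rw [LinearEquiv.symm_apply_eq]
      rfl
    show piMap hle (d + e) (Submodule.liftQ _ θ hθ _) = _
    rw [LinearEquiv.coe_coe, h6, Submodule.liftQ_apply]
    show piMap hle (d + e) ((LinearMap.id - μ.comp r : qgr I (d + e) →ₗ[A] qgr I (d + e)) y) = _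
    rw [LinearMap.sub_apply, map_sub, LinearMap.comp_apply, hπμ, sub_zero]
    rfl
  haveI : Module.Projective A (qgr I' (d + e)) := Module.Projective.of_split sec (piMap hle (d + e)) hsec
  exact Module.free_of_flat_of_isLocalRing

/-- The free pieces of a homogeneous quotient make it flat. -/
theorem flat_of_pieces (I : HomogeneousIdeal 𝒜) (hI : ∀ d, Module.Finite A (qgr I d) ∧ Module.Free A (qgr I d)) :
    Module.Flat A (S ⧸ I.toIdeal) := by
  haveI : ∀ d, Module.Flat A (qgr I d) := fun d => by haveI := (hI d).2; infer_instance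
  exact Module.Flat.of_linearEquiv (DirectSum.decomposeLinearEquiv (qgr I))

/-- The homogeneous ideal of a list of forms. -/
def formsIdeal (𝒜 : ℕ → Submodule A S) [GradedAlgebra 𝒜] (l : List S) (hl : ∀ f ∈ l, ∃ d, f ∈ 𝒜 d) :
    HomogeneousIdeal 𝒜 :=
  ⟨Ideal.ofList l, Ideal.homogeneous_span 𝒜 _ fun f hf => hl f hf⟩

/-- **The flatness criterion.** -/
theorem flat_quotient [∀ d, Module.Finite A (𝒜 d)] [∀ d, Module.Free A (𝒜 d)] :
    ∀ (l : List S) (hl : ∀ f ∈ l, ∃ d, f ∈ 𝒜 d),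
      (∀ (l₁ : List S) (f : S) (l₂ : List S), l = l₁ ++ f :: l₂ → ∀ x : S,
        f * x ∈ Ideal.ofList l₁ ⊔ (maximalIdeal A).map (algebraMap A S) →
          x ∈ Ideal.ofList l₁ ⊔ (maximalIdeal A).map (algebraMap A S)) →
      ∀ d, Module.Finite A (qgr (formsIdeal 𝒜 l hl) d) ∧ Module.Free A (qgr (formsIdeal 𝒜 l hl) d) := by
  intro l
  induction l using List.reverseRecOn with
  | nil =>
    intro hl _ d
    let q : 𝒜 d →ₗ[A] qgr (formsIdeal 𝒜 [] hl) d :=
      ((Ideal.Quotient.mkₐ A _).toLinearMap.comp (𝒜 d).subtype).codRestrict _ fun a => Submodule.mem_map_of_mem a.2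
    have hq : Function.Bijective q := by
      refine ⟨fun a b hab => Subtype.ext ?_, ?_⟩
      · have := Ideal.Quotient.eq.1 (congrArg Subtype.val hab)
        rw [show (formsIdeal 𝒜 [] hl).toIdeal = ⊥ from Ideal.ofList_nil, Ideal.mem_bot, sub_eq_zero] at this
        exact this
      · rintro ⟨y, hy⟩
        obtain ⟨a, ha, rfl⟩ := (mem_qgr_iff _ _ _).mp hy
        exact ⟨⟨a, ha⟩, rfl⟩
    let e := LinearEquiv.ofBijective q hq
    exact ⟨Module.Finite.equiv e, Module.Free.of_equiv e⟩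
  | append_singleton l f ih =>
    intro hl h
    have hl₁ : ∀ g ∈ l, ∃ d, g ∈ 𝒜 d := fun g hg => hl g (List.mem_append_left _ hg)
    obtain ⟨e, hf⟩ := hl f (List.mem_append_right _ (List.mem_singleton_self f))
    refine step (formsIdeal 𝒜 l hl₁) (formsIdeal 𝒜 (l ++ [f]) hl) hf ?_ (h l f [] rfl) (ih hl₁ fun l₁ g l₂ hg => ?_)
    · show Ideal.ofList (l ++ [f]) = Ideal.ofList l ⊔ _
      rw [Ideal.ofList_append, Ideal.ofList_singleton]
    · exact h l₁ g (l₂ ++ [f]) (by rw [hg]; simp)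

end GrothLib.ProjThick9
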