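import Groth.Agent.Lib.ProjThick9.Away
import Groth.Agent.Lib.GradedAlg.ProjClosed
import Groth.Agent.Lib.GradedAlg.Quotient
import Groth.Prelude.Def_CohB1
import Mathlib.AlgebraicGeometry.Morphisms.Flat
import Mathlib.RingTheory.MvPolynomial.Ideal
import Mathlib.Topology.Sober

/-!
# Points and flatness for closed subschemes of projective space over a ring
-/

set_option autoImplicit false
set_option linter.all false
set_option backward.isDefEq.respectTransparency false
set_option maxHeartbeats 800000

universe u

open AlgebraicGeometry CategoryTheory MvPolynomial HomogeneousLocalization TopologicalSpace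

noncomputable section

namespace GrothLib.ProjThick9

open GrothLib.GradedAlg

variable {A : Type u} [CommRing A] {N : ℕ}

local notation "Pol" => MvPolynomial (Fin (N + 1)) A
local notation "gr" => CohB1.polyGrading N A

theorem X_mem (i : Fin (N + 1)) : (X i : Pol) ∈ gr 1 := isHomogeneous_X A i

theorem decompose_zero_eq (b : Pol) : (DirectSum.decompose gr b 0 : Pol) = C (constantCoeff b) := by
  refine (decomposition.decompose'_apply b 0).trans ?_
  rw [homogeneousComponent_zero]
  rfl

theorem sub_C_mem_span (b : Pol) : b - C (constantCoeff b) ∈ Ideal.span (Set.range (X : Fin (N + 1) → Pol)) := by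
  induction b using MvPolynomial.induction_on with
  | C c => simp
  | add b b' hb hb' =>
    have := Ideal.add_mem _ hb hb'
    simpa [add_sub_add_comm] using this
  | mul_X b j _ =>
    have : constantCoeff (b * X j) = 0 := by simp
    rw [this, map_zero, sub_zero]
    exact Ideal.mul_mem_left _ _ (Ideal.subset_span ⟨j, rfl⟩)

theorem irrelevant_le_span :
    (HomogeneousIdeal.irrelevant gr).toIdeal ≤ Ideal.span (Set.range (X : Fin (N + 1) → Pol)) := by
  intro a ha
  have h0 := (HomogeneousIdeal.mem_irrelevant_iff _ a).mp ha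
  rw [GradedRing.proj_apply, decompose_zero_eq] at h0
  simpa [h0] using sub_C_mem_span a

theorem irrelevant_eq_span [DecidableEq Pol] :
    (HomogeneousIdeal.irrelevant gr).toIdeal =
      Ideal.span ((Finset.univ.image (X : Fin (N + 1) → Pol) : Finset Pol) : Set Pol) := by
  rw [Finset.coe_image, Finset.coe_univ, Set.image_univ]
  refine le_antisymm irrelevant_le_span (Ideal.span_le.2 ?_)
  rintro _ ⟨i, rfl⟩
  exact HomogeneousIdeal.mem_irrelevant_of_mem _ one_pos (X_mem i)

theorem exists_X_notMem (x : Proj gr) : ∃ i, (X i : Pol) ∉ x.asHomogeneousIdeal.toIdeal := by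
  by_contra h
  push Not at h
  exact x.not_irrelevant_le (irrelevant_le_span.trans (Ideal.span_le.2 (by rintro _ ⟨i, rfl⟩; exact h i)))

theorem awayι_toSpec (i : Fin (N + 1)) : Proj.awayι gr (X i) (X_mem i) one_pos ≫ CohB1.ProjSpace.toSpec N A =
    Spec.map (CommRingCat.ofHom ((fromZeroRingHom gr (Submonoid.powers (X i : Pol))).comp (algebraMap A (gr 0)))) := by
  show Proj.awayι gr (X i) (X_mem i) one_pos ≫ Proj.toSpecZero gr ≫ Spec.map _ = _
  rw [Proj.awayι_toSpecZero_assoc, ← Spec.map_comp]
  rfl

theorem away_map_comp (I : HomogeneousIdeal gr) (i : Fin (N + 1)) :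
    (Away.map (qhom I) (X i : Pol)).comp
        ((fromZeroRingHom gr (Submonoid.powers (X i : Pol))).comp (algebraMap A (gr 0))) =
      (fromZeroRingHom (qgr I) (Submonoid.powers (qhom I (X i)))).comp (algebraMap A (qgr I 0)) := by
  refine RingHom.ext fun a => val_injective _ ?_
  simp [Away.map, fromZeroRingHom, HomogeneousLocalization.map_mk]
  rfl

/-- A point of projective space over `A` lies over the trace of its prime on `A`. -/
theorem toSpec_asIdeal (x : Proj gr) :
    ((CohB1.ProjSpace.toSpec N A).base x).asIdeal = x.asHomogeneousIdeal.toIdeal.comap (C : A →+* Pol) := by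
  obtain ⟨i, hi⟩ := exists_X_notMem x
  have hx : x ∈ (Proj.awayι gr (X i) (X_mem i) one_pos).opensRange := by
    rw [Proj.opensRange_awayι]
    exact (Proj.mem_basicOpen gr _ x).2 hi
  obtain ⟨y, hy⟩ := hx
  have hcomp := awayι_toSpec (A := A) i
  have h1 : ((CohB1.ProjSpace.toSpec N A).base x).asIdeal =
      y.asIdeal.comap ((fromZeroRingHom gr (Submonoid.powers (X i : Pol))).comp (algebraMap A (gr 0))) := by
    rw [← hy]
    exact congrArg PrimeSpectrum.asIdeal (congrArg (fun f => f.base y) hcomp)
  rw [h1]
  ext a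
  rw [Ideal.mem_comap, Ideal.mem_comap]
  have hg : C a * X i ∈ gr 1 := IsHomogeneous.C_mul (isHomogeneous_X A i) a
  have hel : Away.isLocalizationElem (X_mem i) hg =
      (fromZeroRingHom gr (Submonoid.powers (X i : Pol))).comp (algebraMap A (gr 0)) a := by
    refine val_injective _ ?_
    show Localization.mk _ _ = Localization.mk _ _
    rw [Localization.mk_eq_mk_iff, Localization.r_iff_exists]
    refine ⟨1, ?_⟩
    simp [MvPolynomial.algebraMap_eq]
    ring
  have hpre : (Proj.awayι gr (X i) (X_mem i) one_pos).base y ∈ Proj.basicOpen gr (C a * X i) ↔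
      y ∈ PrimeSpectrum.basicOpen (Away.isLocalizationElem (X_mem i) hg) := by
    rw [← Proj.awayι_preimage_basicOpen gr (X_mem i) one_pos hg one_pos]
    rfl
  rw [hel, hy] at hpre
  constructor
  · intro ha
    by_contra hC
    exact (hpre.1 ((Proj.mem_basicOpen gr _ x).2 fun h => (x.isPrime.mem_or_mem h).elim hC hi)) ha
  · intro ha
    by_contra hC
    exact ((Proj.mem_basicOpen gr _ x).1 (hpre.2 hC)) (Ideal.mul_mem_right _ _ ha)

/-- A flat homogeneous quotient gives a flat family. -/
theorem flat_map_qhom (I : HomogeneousIdeal gr) [Module.Flat A (Pol ⧸ I.toIdeal)] :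
    Flat (Proj.map (qhom I) (irrelevant_le_map_qhom I) ≫ CohB1.ProjSpace.toSpec N A) := by
  have hspan : (HomogeneousIdeal.irrelevant (qgr I)).toIdeal ≤
      Ideal.span (Set.range fun i : Fin (N + 1) => qhom I (X i)) := by
    refine le_trans (irrelevant_le_map_qhom I) ?_
    show (HomogeneousIdeal.irrelevant gr).toIdeal.map (qhom I) ≤ _
    refine le_trans (Ideal.map_mono irrelevant_le_span) ?_
    rw [Ideal.map_span, ← Set.range_comp]
    rfl
  let 𝒰 := Proj.affineOpenCoverOfIrrelevantLESpan (qgr I) (fun i : Fin (N + 1) => qhom I (X i))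
    (fun i => (qhom I).2 (X_mem i)) (fun _ => one_pos) hspan
  refine (IsZariskiLocalAtSource.iff_of_openCover (P := @Flat) 𝒰.openCover).2 fun i => ?_
  show Flat (Proj.awayι (qgr I) (qhom I (X i)) ((qhom I).2 (X_mem i)) one_pos ≫
    Proj.map (qhom I) (irrelevant_le_map_qhom I) ≫ CohB1.ProjSpace.toSpec N A)
  rw [Proj.awayι_comp_map_assoc (qhom I) (irrelevant_le_map_qhom I) one_pos (X i) (X_mem i), awayι_toSpec,
    ← Spec.map_comp, ← CommRingCat.ofHom_comp, HasRingHomProperty.Spec_iff (P := @Flat), CommRingCat.hom_ofHom]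
  rw [away_map_comp I i]
  exact flat_away (qgr I) (x := qhom I (X i)) ((qhom I).2 (X_mem i))

/-- The points of a closed subscheme given by a homogeneous ideal. -/
theorem mem_range_map_qhom (I : HomogeneousIdeal gr) (p : Proj gr) :
    p ∈ Set.range (Proj.map (qhom I) (irrelevant_le_map_qhom I)).base ↔
      I.toIdeal ≤ p.asHomogeneousIdeal.toIdeal := by
  constructor
  · rintro ⟨q, rfl⟩ a ha
    show qhom I a ∈ q.asHomogeneousIdeal.toIdeal
    rw [qhom_apply, Ideal.Quotient.eq_zero_iff_mem.2 ha]
    exact zero_mem _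
  · intro h
    haveI := p.isPrime
    let q₀ : HomogeneousIdeal (qgr I) := HomogeneousIdeal.map (qhom I) p.asHomogeneousIdeal
    have hker : RingHom.ker (Ideal.Quotient.mk I.toIdeal) ≤ p.asHomogeneousIdeal.toIdeal := by
      rwa [Ideal.mk_ker]
    have hcomap : q₀.toIdeal.comap (Ideal.Quotient.mk I.toIdeal) = p.asHomogeneousIdeal.toIdeal := by
      show (p.asHomogeneousIdeal.toIdeal.map (Ideal.Quotient.mk I.toIdeal)).comap _ = _
      rw [Ideal.comap_map_of_surjective' _ Ideal.Quotient.mk_surjective, sup_eq_left.2 hker]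
    have hprime : q₀.toIdeal.IsPrime :=
      Ideal.map_isPrime_of_surjective (f := Ideal.Quotient.mk I.toIdeal) Ideal.Quotient.mk_surjective hker
    have hrel : ¬ HomogeneousIdeal.irrelevant (qgr I) ≤ q₀ := fun hle => p.not_irrelevant_le fun a ha => by
      show a ∈ p.asHomogeneousIdeal.toIdeal
      rw [← hcomap]
      refine hle ?_
      have := (HomogeneousIdeal.mem_irrelevant_iff _ a).mp ha
      refine irrelevant_le_span_map I ?_
      exact Ideal.mem_map_of_mem _ ha
    exact ⟨⟨q₀, hprime, hrel⟩, ProjectiveSpectrum.ext (HomogeneousIdeal.ext hcomap)⟩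
where
  irrelevant_le_span_map (I : HomogeneousIdeal gr) :
      (HomogeneousIdeal.irrelevant gr).toIdeal.map (qhom I) ≤ (HomogeneousIdeal.irrelevant (qgr I)).toIdeal := by
    refine (Ideal.map_mono irrelevant_le_span).trans ?_
    rw [Ideal.map_span, Ideal.span_le]
    rintro _ ⟨_, ⟨i, rfl⟩, rfl⟩
    exact HomogeneousIdeal.mem_irrelevant_of_mem _ one_pos ((qhom I).2 (X_mem i))

section Dim

variable {α : Type*} [TopologicalSpace α] [T0Space α]

theorem ssubset_closure {a b : α} (h : a ⤳ b) (hne : a ≠ b) : (closure {b} : Set α) ⊂ closure {a} :=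
  ⟨closure_minimal (Set.singleton_subset_iff.2 h.mem_closure) isClosed_closure, fun h' =>
    hne ((h.antisymm (specializes_iff_mem_closure.2 (h' (subset_closure rfl)))).eq)⟩

/-- Chains of specialisations bound the dimension below. -/
theorem length_le_topDim {m : ℕ} (z : Fin (m + 1) → α)
    (h : ∀ j : Fin m, z j.castSucc ⤳ z j.succ ∧ z j.castSucc ≠ z j.succ) :
    (m : WithBot ℕ∞) ≤ topologicalKrullDim α := by
  let l : LTSeries (IrreducibleCloseds α) :=
    { length := m
      toFun := fun j => ⟨closure {z j.rev}, isIrreducible_singleton.closure, isClosed_closure⟩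
      step := fun j => by
        show (closure {z j.castSucc.rev} : Set α) ⊂ closure {z j.succ.rev}
        rw [Fin.rev_castSucc, Fin.rev_succ]
        exact ssubset_closure (h j.rev).1 (h j.rev).2 }
  exact le_iSup (fun p : LTSeries (IrreducibleCloseds α) => (p.length : WithBot ℕ∞)) l

variable [QuasiSober α]

/-- A bound on chains of specialisations bounds the dimension above. -/
theorem topDim_le {n : ℕ} (h : ∀ (m : ℕ) (z : Fin (m + 1) → α),
    (∀ j : Fin m, z j.castSucc ⤳ z j.succ ∧ z j.castSucc ≠ z j.succ) → m ≤ n) :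
    topologicalKrullDim α ≤ n := by
  refine iSup_le fun l => ?_
  let g : Fin (l.length + 1) → α := fun j => (l j.rev).isIrreducible.genericPoint
  have hg : ∀ j, closure ({g j} : Set α) = (l j.rev : Set α) := fun j => by
    exact (l j.rev).isIrreducible.closure_genericPoint (l j.rev).isClosed
  have := h l.length g fun j => by
    have hlt : (l j.succ.rev : Set α) ⊂ (l j.castSucc.rev : Set α) := by
      rw [Fin.rev_castSucc, Fin.rev_succ]
      exact l.step j.rev
    rw [← hg, ← hg] at hlt
    exact ⟨specializes_iff_mem_closure.2 (hlt.1 (subset_closure rfl)), fun he => hlt.2 (by rw [he])⟩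
  exact_mod_cast this

end Dim

end GrothLib.ProjThick9
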