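import Groth.Agent.Lib.ProjDim.Basic
import Groth.Agent.Lib.ProjDim.Inter
import Groth.Agent.Lib.RelGCIReg.Basic
import Groth.Agent.Lib.MorQ9.Avoid

/-!
# Choosing forms in a homogeneous ideal of a polynomial ring over a field
-/

set_option autoImplicit false
set_option linter.all false
set_option backward.isDefEq.respectTransparency false
set_option maxHeartbeats 800000

universe u

open AlgebraicGeometry MvPolynomial RingTheory.Sequence

noncomputable section

namespace GrothLib.ProjThick9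

open GrothLib.ProjDim

variable {k : Type u} [Field k] {N : ℕ}

local notation "P" => MvPolynomial (Fin (N + 1)) k
local notation "gr" => CohB1.polyGrading N k

/-- Homogeneous prime avoidance inside an ideal. -/
theorem exists_form_avoid (J : Ideal P) (hJ : J.IsHomogeneous gr) (hJm : J ≤ mIdeal k N)
    (T : Finset (Ideal P)) (hT : ∀ q ∈ T, q.IsPrime ∧ q.IsHomogeneous gr ∧ ¬ J ≤ q) :
    ∃ (d : ℕ) (f : P), 0 < d ∧ f ∈ gr d ∧ f ∈ J ∧ ∀ q ∈ T, f ∉ q := by
  classical
  induction T using Finset.strongInduction with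
  | _ T ih =>
    rcases T.eq_empty_or_nonempty with rfl | hne
    · exact ⟨1, 0, one_pos, zero_mem _, J.zero_mem, fun p hp => absurd hp (Finset.notMem_empty p)⟩
    obtain ⟨q, hqmin⟩ := T.exists_minimal hne
    have hqT : q ∈ T := hqmin.prop
    obtain ⟨hqp, hqh, hqJ⟩ := hT q hqT
    obtain ⟨d, f, hd, hf, hfJ, hfT⟩ := ih (T.erase q) (Finset.erase_ssubset hqT)
      fun p hp => hT p (Finset.mem_of_mem_erase hp)
    by_cases hfq : f ∈ q
    swap
    · refine ⟨d, f, hd, hf, hfJ, fun p hp => ?_⟩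
      by_cases h : p = q
      · exact h ▸ hfq
      · exact hfT p (Finset.mem_erase.mpr ⟨h, hp⟩)
    have hg : ∀ U : Finset (Ideal P), U ⊆ T.erase q → ∃ (e : ℕ) (g : P), 0 < e ∧ g ∈ gr e ∧ g ∈ J ∧
        g ∉ q ∧ ∀ p ∈ U, g ∈ p := by
      intro U
      induction U using Finset.induction_on with
      | empty =>
        intro _
        obtain ⟨i, a, ha, hai, haq⟩ := GrothLib.MorQ9.exists_homogeneous_notMem gr hJ hqJ
        refine ⟨i, a, Nat.pos_of_ne_zero fun h0 => haq ?_, ha, hai, haq, fun p hp => absurd hp (Finset.notMem_empty p)⟩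
        subst h0
        have h := hJm hai
        rw [mem_mIdeal] at h
        have h' : GradedRing.proj gr 0 a = a := by
          rw [GradedRing.proj_apply, DirectSum.decompose_of_mem_same gr ha]
        rw [proj_zero_eq, h, map_zero] at h'
        rw [← h']
        exact zero_mem _
      | insert p U hpU ihU =>
        intro hsub
        obtain ⟨e, g, he, hg, hgJ, hgq, hgU⟩ := ihU fun x hx => hsub (Finset.mem_insert_of_mem hx)
        have hp := hsub (Finset.mem_insert_self p U)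
        have hnle : ¬ p ≤ q := fun hle =>
          (Finset.mem_erase.mp hp).1 (le_antisymm hle (hqmin.le_of_le (Finset.mem_erase.mp hp).2 hle))
        obtain ⟨i, a, hai, hap, haq⟩ := GrothLib.MorQ9.exists_homogeneous_notMem gr
          (hT p (Finset.mem_of_mem_erase hp)).2.1 hnle
        refine ⟨e + i, g * a, by omega, SetLike.mul_mem_graded hg hai, J.mul_mem_right a hgJ,
          fun h => (hqp.mem_or_mem h).elim hgq haq, fun x hx => ?_⟩
        rcases Finset.mem_insert.mp hx with rfl | hx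
        · exact Ideal.mul_mem_left _ g hap
        · exact Ideal.mul_mem_right a _ (hgU x hx)
    obtain ⟨e, g, he, hg', hgJ, hgq, hgT⟩ := hg _ le_rfl
    refine ⟨d * e, f ^ e + g ^ d, Nat.mul_pos hd he, ?_,
      add_mem (J.pow_mem_of_mem hfJ e he) (J.pow_mem_of_mem hgJ d hd), fun p hp => ?_⟩
    · refine add_mem ?_ ?_
      · rw [mul_comm d e]; exact SetLike.pow_mem_graded e hf
      · exact SetLike.pow_mem_graded d hg'
    · by_cases h : p = q
      · rw [h]
        intro hm
        exact hgq (hqp.mem_of_pow_mem d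
          ((Ideal.add_mem_iff_right _ (Ideal.pow_mem_of_mem _ hfq e he)).mp hm))
      · intro hm
        exact hfT p (Finset.mem_erase.mpr ⟨h, hp⟩) ((hT p hp).1.mem_of_pow_mem e
          ((Ideal.add_mem_iff_left _ (Ideal.pow_mem_of_mem _ (hgT p (Finset.mem_erase.mpr ⟨h, hp⟩)) d hd)).mp hm))

/-- The dimension of a quotient is the largest dimension at a prime. -/
theorem dim_quotient_le {R : Type u} [CommRing R] (I : Ideal R) (b : WithBot ℕ∞)
    (h : ∀ q : Ideal R, q.IsPrime → I ≤ q → ringKrullDim (R ⧸ q) ≤ b) : ringKrullDim (R ⧸ I) ≤ b := by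
  rw [ringKrullDim_quotient]
  refine iSup_le fun l => ?_
  refine le_trans ?_ (h l.head.1.asIdeal l.head.1.2 l.head.2)
  rw [ringKrullDim_quotient]
  let l' : LTSeries (PrimeSpectrum.zeroLocus (R := R) l.head.1.asIdeal) :=
    { length := l.length
      toFun := fun i => ⟨(l i).1, show (l.head.1.asIdeal : Set R) ⊆ (l i).1.asIdeal from
        (show l.head ≤ l i from LTSeries.head_le l i)⟩
      step := fun i => l.step i }
  exact le_iSup (fun p : LTSeries _ => (p.length : WithBot ℕ∞)) l'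

/-- Cutting down the dimension by one. -/
theorem exists_cut (J : Ideal P) (hJ : J.IsHomogeneous gr) (hJm : J ≤ mIdeal k N) (c : ℕ)
    (hJc : ringKrullDim (P ⧸ J) ≤ c) (I : Ideal P) (hI : I.IsHomogeneous gr) (d : ℕ) (hcd : c ≤ d)
    (hId : ringKrullDim (P ⧸ I) ≤ ((d + 1 : ℕ) : WithBot ℕ∞)) :
    ∃ (e : ℕ) (f : P), 0 < e ∧ f ∈ gr e ∧ f ∈ J ∧ ringKrullDim (P ⧸ (I ⊔ Ideal.span {f})) ≤ d := by
  classical
  let T : Finset (Ideal P) := ((Ideal.finite_minimalPrimes_of_isNoetherianRing P I).toFinset).filter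
    fun q => ¬ ringKrullDim (P ⧸ q) ≤ d
  have hT : ∀ q ∈ T, q.IsPrime ∧ q.IsHomogeneous gr ∧ ¬ J ≤ q := fun q hq => by
    obtain ⟨h1, h2⟩ := Finset.mem_filter.1 hq
    rw [Set.Finite.mem_toFinset] at h1
    refine ⟨h1.1.1, isHomogeneous_minimalPrimes hI h1, fun hle => h2 ?_⟩
    exact ((ringKrullDim_le_of_surjective (Ideal.Quotient.factor hle)
      (Ideal.Quotient.factor_surjective hle)).trans hJc).trans (by exact_mod_cast hcd)
  obtain ⟨e, f, he, hf, hfJ, hfT⟩ := exists_form_avoid J hJ hJm T hT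
  refine ⟨e, f, he, hf, hfJ, dim_quotient_le _ _ fun Q hQ hle => ?_⟩
  obtain ⟨q, hq, hqQ⟩ := Ideal.exists_minimalPrimes_le (le_sup_left.trans hle)
  haveI := hq.1.1
  by_cases hqd : ringKrullDim (P ⧸ q) ≤ d
  · exact (ringKrullDim_le_of_surjective (Ideal.Quotient.factor hqQ) (Ideal.Quotient.factor_surjective hqQ)).trans hqd
  have hlt : q < Q := lt_of_le_of_ne hqQ fun h => hfT q (Finset.mem_filter.2 ⟨by simpa using hq, hqd⟩)
    (h ▸ hle (Ideal.mem_sup_right (Ideal.mem_span_singleton_self f)))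
  have h1 := (dim_add_one_le_of_lt hlt).trans
    ((ringKrullDim_le_of_surjective (Ideal.Quotient.factor hq.1.2) (Ideal.Quotient.factor_surjective hq.1.2)).trans hId)
  obtain ⟨m, hm⟩ := exists_nat_dim_quotient Q
  rw [hm] at h1 ⊢
  norm_cast at h1 ⊢
  omega

/-- A list of forms cutting down to the expected dimension. -/
theorem exists_list (J : Ideal P) (hJ : J.IsHomogeneous gr) (hJm : J ≤ mIdeal k N) (c : ℕ)
    (hJc : ringKrullDim (P ⧸ J) ≤ c) (b : ℕ) (hcb : c ≤ b) :
    ∀ (t : ℕ) (I : Ideal P), I.IsHomogeneous gr → ringKrullDim (P ⧸ I) ≤ ((b + t : ℕ) : WithBot ℕ∞) →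
      ∃ l : List P, l.length = t ∧ (∀ f ∈ l, ∃ e, 0 < e ∧ f ∈ gr e ∧ f ∈ J) ∧
        ringKrullDim (P ⧸ (I ⊔ Ideal.ofList l)) ≤ b := by
  intro t
  induction t with
  | zero =>
    intro I _ hd
    exact ⟨[], rfl, fun f hf => absurd hf List.not_mem_nil, by rwa [Ideal.ofList_nil, sup_bot_eq]⟩
  | succ t ih =>
    intro I hI hd
    obtain ⟨e, f, he, hf, hfJ, hfd⟩ := exists_cut J hJ hJm c hJc I hI (b + t) (by omega) hd
    have hI' : (I ⊔ Ideal.span {f}).IsHomogeneous gr :=
      Ideal.IsHomogeneous.sup hI (Ideal.homogeneous_span _ _ fun g hg => ⟨e, by rwa [Set.mem_singleton_iff.1 hg]⟩)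
    obtain ⟨l, hl, hlm, hld⟩ := ih _ hI' hfd
    refine ⟨f :: l, by rw [List.length_cons, hl], fun g hg => ?_, by rwa [Ideal.ofList_cons, ← sup_assoc]⟩
    rcases List.mem_cons.1 hg with rfl | hg
    · exact ⟨e, he, hf, hfJ⟩
    · exact hlm g hg

theorem mem_of_mul_mem {I : Ideal P} (hI : I.IsHomogeneous gr) {u x : P} (hu : u ∉ mIdeal k N) {n : ℕ}
    (hx : x ∈ gr n) (h : u * x ∈ I) : x ∈ I := by
  classical
  have hC : (Submodule.colon I ({x} : Set P)).IsHomogeneous gr := by
    intro i a ha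
    rw [Submodule.mem_colon_singleton, smul_eq_mul] at ha ⊢
    have := hI (i + n) ha
    rwa [DirectSum.coe_decompose_mul_of_right_mem_of_le gr hx (Nat.le_add_left n i), Nat.add_sub_cancel] at this
  by_contra hxI
  refine hu (le_mIdeal hC ?_ ?_)
  · intro htop
    exact hxI (by simpa [Submodule.mem_colon_singleton] using (htop ▸ Submodule.mem_top : (1 : P) ∈ Submodule.colon I ({x} : Set P)))
  · rw [Submodule.mem_colon_singleton, smul_eq_mul]
    exact h

/-- Forms cutting down to the expected dimension form a regular sequence. -/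
theorem mem_of_form_mul_mem (F : List P) (hF : ∀ f ∈ F, ∃ e, 0 < e ∧ f ∈ gr e) (hlen : F.length ≤ N + 1)
    (hdim : ringKrullDim (P ⧸ Ideal.ofList F) ≤ ((N + 1 - F.length : ℕ) : WithBot ℕ∞))
    (l₁ : List P) (f : P) (l₂ : List P) (hsplit : F = l₁ ++ f :: l₂) (x : P) (hx : f * x ∈ Ideal.ofList l₁) :
    x ∈ Ideal.ofList l₁ := by
  classical
  have hI : (Ideal.ofList l₁).IsHomogeneous gr := Ideal.homogeneous_span _ _ fun g hg => by
    obtain ⟨e, -, he⟩ := hF g (hsplit ▸ List.mem_append_left _ hg)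
    exact ⟨e, he⟩
  obtain ⟨e, -, hf⟩ := hF f (hsplit ▸ List.mem_append_right _ List.mem_cons_self)
  rw [← DirectSum.sum_support_decompose gr x]
  refine Ideal.sum_mem _ fun n _ => ?_
  set y : P := (DirectSum.decompose gr x n : P) with hy
  have hyn : y ∈ gr n := (DirectSum.decompose gr x n).2
  have hfy : f * y ∈ Ideal.ofList l₁ := by
    have := hI (e + n) hx
    rwa [DirectSum.coe_decompose_mul_of_left_mem_of_le gr hf (Nat.le_add_right e n), Nat.add_sub_cancel_left] at this
  let p := mIdeal k N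
  let L := Localization.AtPrime p
  have hrange : Set.range F.get = {g | g ∈ F} := by simp
  have hle : Ideal.span (Set.range F.get) ≤ p := by
    rw [hrange, Ideal.span_le]
    intro g hg
    obtain ⟨e, he, hge⟩ := hF g hg
    show g ∈ mIdeal k N
    rw [← irrelevant_eq (k := k) (n := N)]
    exact HomogeneousIdeal.mem_irrelevant_of_mem _ he hge
  have hreg := GrothLib.RelGCIReg.isRegular_atPrime_of_dim hlen F.get (by rw [hrange]; exact hdim) p hle
  rw [List.ofFn_get] at hreg
  have hw := (isWeaklyRegular_iff _ _).1 hreg.toIsWeaklyRegular l₁.length (by rw [hsplit]; simp)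
  have htake : (F.map (algebraMap P L)).take l₁.length = l₁.map (algebraMap P L) := by
    rw [← List.map_take, hsplit, List.take_left]
  have hget : (F.map (algebraMap P L))[l₁.length]'(by rw [hsplit]; simp) = algebraMap P L f := by
    subst hsplit
    simp
  rw [htake, hget, Ideal.smul_eq_mul, Ideal.mul_top] at hw
  have h1 : algebraMap P L y ∈ Ideal.ofList (l₁.map (algebraMap P L)) := by
    rw [← Submodule.Quotient.mk_eq_zero (p := (Ideal.ofList (l₁.map (algebraMap P L)) : Ideal L))]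
    refine hw ?_
    show algebraMap P L f • Submodule.Quotient.mk (algebraMap P L y) = algebraMap P L f • 0
    rw [smul_zero, ← Submodule.Quotient.mk_smul, Submodule.Quotient.mk_eq_zero, smul_eq_mul, ← map_mul, ← Ideal.map_ofList]
    exact Ideal.mem_map_of_mem _ hfy
  rw [← Ideal.map_ofList, IsLocalization.algebraMap_mem_map_algebraMap_iff p.primeCompl] at h1
  obtain ⟨u, hu, huy⟩ := h1
  exact mem_of_mul_mem hI hu hyn huy

/-- **The selection.** -/
theorem exists_forms (J : Ideal P) (hJ : J.IsHomogeneous gr) (hJm : J ≤ mIdeal k N) (n : ℕ) (hn : n ≤ N)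
    (hJd : ringKrullDim (P ⧸ J) ≤ ((n + 1 : ℕ) : WithBot ℕ∞)) :
    ∃ F G : List P, (∀ f ∈ F, ∃ e, 0 < e ∧ f ∈ gr e ∧ f ∈ J) ∧ (∀ g ∈ G, ∃ e, 0 < e ∧ g ∈ gr e) ∧
      G.length = n + 1 ∧
      (∀ (l₁ : List P) (f : P) (l₂ : List P), F = l₁ ++ f :: l₂ → ∀ x, f * x ∈ Ideal.ofList l₁ → x ∈ Ideal.ofList l₁) ∧
      ∀ q : Ideal P, q.IsPrime → Ideal.ofList F ⊔ Ideal.ofList G ≤ q → q = mIdeal k N := by
  have hS : ringKrullDim (P ⧸ (⊥ : Ideal P)) ≤ ((n + 1 + (N - n) : ℕ) : WithBot ℕ∞) := by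
    rw [ringKrullDim_eq_of_ringEquiv (RingEquiv.quotientBot P), MvPolynomial.ringKrullDim_of_isNoetherianRing,
      ringKrullDim_eq_zero_of_field, zero_add, show n + 1 + (N - n) = N + 1 by omega]
    simp
  obtain ⟨F, hFl, hF, hFd⟩ := exists_list J hJ hJm (n + 1) hJd (n + 1) le_rfl (N - n) ⊥ (Ideal.IsHomogeneous.bot _) hS
  rw [bot_sup_eq] at hFd
  have hm0 : ringKrullDim (P ⧸ mIdeal k N) ≤ ((0 : ℕ) : WithBot ℕ∞) := by
    rw [ringKrullDim_quotient_mIdeal]; simp
  have hmh : (mIdeal k N).IsHomogeneous gr := by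
    rw [← irrelevant_eq]; exact HomogeneousIdeal.isHomogeneous _
  obtain ⟨G, hGl, hG, hGd⟩ := exists_list (mIdeal k N) hmh le_rfl 0 hm0 0 le_rfl (n + 1) (Ideal.ofList F)
    (Ideal.homogeneous_span _ _ fun f hf => by obtain ⟨e, -, he, -⟩ := hF f hf; exact ⟨e, he⟩) (by rw [zero_add]; exact hFd)
  refine ⟨F, G, hF, fun g hg => by obtain ⟨e, he, h, -⟩ := hG g hg; exact ⟨e, he, h⟩, hGl,
    mem_of_form_mul_mem F (fun f hf => by obtain ⟨e, he, h, -⟩ := hF f hf; exact ⟨e, he, h⟩) (by omega) (by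
      rw [hFl, show N + 1 - (N - n) = n + 1 by omega]; exact hFd), fun q hq hle => ?_⟩
  have hhom : (Ideal.ofList F ⊔ Ideal.ofList G).IsHomogeneous gr := by
    refine Ideal.IsHomogeneous.sup (Ideal.homogeneous_span _ _ fun f hf => ?_) (Ideal.homogeneous_span _ _ fun f hf => ?_)
    · obtain ⟨e, -, he, -⟩ := hF f hf; exact ⟨e, he⟩
    · obtain ⟨e, -, he, -⟩ := hG f hf; exact ⟨e, he⟩
  obtain ⟨q₀, hq₀, hq₀q⟩ := Ideal.exists_minimalPrimes_le hle
  haveI := hq₀.1.1
  have h0 : q₀ = mIdeal k N := by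
    refine le_antisymm (le_mIdeal (isHomogeneous_minimalPrimes hhom hq₀) Ideal.IsPrime.ne_top') ?_
    by_contra hne
    have hlt : q₀ < mIdeal k N := lt_of_le_not_ge (le_mIdeal (isHomogeneous_minimalPrimes hhom hq₀) Ideal.IsPrime.ne_top') hne
    have h2 := (dim_add_one_le_of_lt hlt).trans ((ringKrullDim_le_of_surjective (Ideal.Quotient.factor hq₀.1.2)
      (Ideal.Quotient.factor_surjective hq₀.1.2)).trans hGd)
    rw [ringKrullDim_quotient_mIdeal, zero_add] at h2
    norm_cast at h2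
  exact (Ideal.IsMaximal.eq_of_le inferInstance hq.ne_top (h0 ▸ hq₀q)).symm

end GrothLib.ProjThick9
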