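import Groth.Agent.Lib.ProjThick9.Flat
import Groth.Agent.Lib.ProjThick9.Select
import Groth.Agent.Lib.ProjThick9.Proj
import Mathlib.RingTheory.Nakayama

/-!
# Lifting forms from the closed fibre
-/

set_option autoImplicit false
set_option linter.all false
set_option backward.isDefEq.respectTransparency false
set_option maxHeartbeats 800000

universe u

open AlgebraicGeometry MvPolynomial IsLocalRing

noncomputable section

namespace GrothLib.ProjThick9

open GrothLib.GradedAlg GrothLib.ProjDim

variable {A : Type u} [CommRing A] [IsLocalRing A] {N : ℕ}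

local notation "Pol" => MvPolynomial (Fin (N + 1)) A
local notation "Polk" => MvPolynomial (Fin (N + 1)) (ResidueField A)
local notation "gr" => CohB1.polyGrading N A
local notation "grk" => CohB1.polyGrading N (ResidueField A)

variable (A N) in
/-- Reduction to the closed fibre. -/
def red : GradedRingHom (CohB1.polyGrading N A) (CohB1.polyGrading N (ResidueField A)) where
  toRingHom := MvPolynomial.map (residue A)
  map_mem h := IsHomogeneous.map h _

theorem red_surjective : Function.Surjective (red A N) :=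
  MvPolynomial.map_surjective _ IsLocalRing.residue_surjective

theorem ker_red : RingHom.ker (MvPolynomial.map (residue A) : Pol →+* Polk) =
    (maximalIdeal A).map (algebraMap A Pol) := by
  rw [MvPolynomial.ker_map, IsLocalRing.ker_residue]
  rfl

theorem red_decompose (a : Pol) (e : ℕ) :
    red A N (DirectSum.decompose gr a e : Pol) = (DirectSum.decompose grk (red A N a) e : Polk) := by
  refine (congrArg (red A N) (decomposition.decompose'_apply a e)).trans
    (Eq.trans ?_ (decomposition.decompose'_apply (red A N a) e).symm)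
  refine MvPolynomial.ext _ _ fun d => ?_
  show coeff d (MvPolynomial.map (residue A) _) = coeff d (homogeneousComponent e (MvPolynomial.map (residue A) a))
  rw [coeff_map, coeff_homogeneousComponent, coeff_homogeneousComponent]
  split_ifs
  · rw [coeff_map]
  · rw [map_zero]

theorem lift_list {R T : Type u} (φ : R → T) (Q : R → Prop) :
    ∀ F : List T, (∀ f ∈ F, ∃ a, Q a ∧ φ a = f) → ∃ L : List R, L.map φ = F ∧ ∀ a ∈ L, Q a := by
  intro F
  induction F with
  | nil => exact fun _ => ⟨[], rfl, fun a h => absurd h List.not_mem_nil⟩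
  | cons f F ih =>
    intro h
    obtain ⟨a, ha, rfl⟩ := h f List.mem_cons_self
    obtain ⟨L, rfl, hL⟩ := ih fun g hg => h g (List.mem_cons_of_mem _ hg)
    exact ⟨a :: L, rfl, fun b hb => (List.mem_cons.1 hb).elim (fun e => e ▸ ha) (hL b)⟩

instance free_piece (d : ℕ) : Module.Free A ↥(gr d) := by
  show Module.Free A ↥(MvPolynomial.homogeneousSubmodule (Fin (N + 1)) A d)
  rw [MvPolynomial.homogeneousSubmodule_eq_finsupp_supported]
  exact Module.Free.of_equiv (AddMonoidAlgebra.supportedEquivFinsupp _).symm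

variable [IsNoetherianRing A]

instance finite_piece (d : ℕ) : Module.Finite A ↥(gr d) :=
  Module.Finite.of_injective (Submodule.inclusion (show gr d ≤ MvPolynomial.restrictTotalDegree (Fin (N + 1)) A d from
    fun a ha => (mem_restrictTotalDegree _ _ a).2 ha.totalDegree_le)) (Submodule.inclusion_injective _)

/-- If the forms cut out only the vertex on the closed fibre, they do so over `A`. -/
theorem X_mem_radical (K : Ideal Pol) (hK : K.IsHomogeneous gr)
    (hk : ∀ q : Ideal Polk, q.IsPrime → K.map (red A N) ≤ q → q = mIdeal (ResidueField A) N) (i : Fin (N + 1)) :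
    (X i : Pol) ∈ K.radical := by
  classical
  have hrad : idealOfVars (Fin (N + 1)) (ResidueField A) ≤ (K.map (red A N)).radical := by
    rw [Ideal.radical_eq_sInf]
    refine le_sInf fun q hq => ?_
    rw [hk q hq.2 hq.1, Ideal.span_le]
    rintro _ ⟨j, rfl⟩
    exact constantCoeff_X _ j
  obtain ⟨M, hM⟩ := Ideal.exists_pow_le_of_le_radical_of_fg hrad (idealOfVars_fg _ _)
  let p : Pol →ₗ[A] Pol := (gr M).subtype.comp (pr gr M)
  have hle : (gr M : Submodule A Pol) ≤ K.restrictScalars A ⊔ maximalIdeal A • (gr M : Submodule A Pol) := by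
    intro x hx
    have hx' : red A N x ∈ K.map (red A N) := by
      refine hM ((mem_pow_idealOfVars_iff M _).2 fun d hd => ?_)
      have h1 : (red A N x : Polk).IsHomogeneous M := (red A N).2 hx
      exact le_of_eq (h1.degree_eq_sum_deg_support hd)
    obtain ⟨a, ha, hax⟩ := (Ideal.mem_map_iff_of_surjective _ red_surjective).1 hx'
    have hb : x - a ∈ maximalIdeal A • (⊤ : Submodule A Pol) := by
      rw [← map_maximal_eq, ← ker_red, RingHom.mem_ker, map_sub]
      exact sub_eq_zero.2 hax.symm
    have hpx : p x = x := by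
      show ((pr gr M x : gr M) : Pol) = x
      exact congrArg Subtype.val (pr_coe (𝒜 := gr) M ⟨x, hx⟩)
    have hb' := Submodule.mem_map_of_mem (f := p) hb
    rw [Submodule.map_smul'', map_sub, hpx] at hb'
    have hb'' : x - p a ∈ maximalIdeal A • (gr M : Submodule A Pol) :=
      Submodule.smul_mono le_rfl (by rw [Submodule.map_top]; rintro _ ⟨y, rfl⟩; exact (pr gr M y).2) hb'
    have ha' : p a ∈ K.restrictScalars A := hK M ha
    have := Submodule.add_mem_sup ha' hb''
    rwa [add_sub_cancel] at this
  have h := Submodule.le_of_le_smul_of_le_jacobson_bot (Module.Finite.iff_fg.1 (finite_piece M))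
    (IsLocalRing.maximalIdeal_le_jacobson _) hle
  exact ⟨M, h (by simpa using SetLike.pow_mem_graded M (X_mem i))⟩

/-- **Forms cutting out a flat thickening.** -/
theorem exists_forms_over (J : HomogeneousIdeal gr) (n : ℕ) (hn : n ≤ N)
    (hJ : ∀ l : LTSeries (ProjectiveSpectrum grk),
      J.toIdeal.map (red A N) ⊓ mIdeal (ResidueField A) N ≤ l.head.asHomogeneousIdeal.toIdeal → l.length ≤ n) :
    ∃ (I : HomogeneousIdeal gr) (G : List Pol), I.toIdeal ≤ J.toIdeal ∧ Module.Flat A (Pol ⧸ I.toIdeal) ∧
      G.length = n + 1 ∧ (∀ g ∈ G, constantCoeff g = 0) ∧ ∀ i, (X i : Pol) ∈ (I.toIdeal ⊔ Ideal.ofList G).radical := by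
  classical
  let Jk : Ideal Polk := J.toIdeal.map (red A N) ⊓ mIdeal (ResidueField A) N
  have hmh : (mIdeal (ResidueField A) N).IsHomogeneous grk := by
    rw [← irrelevant_eq]; exact HomogeneousIdeal.isHomogeneous _
  have hmap : (J.toIdeal.map (red A N)).IsHomogeneous grk := (J.map (red A N)).isHomogeneous
  have hJk : Jk.IsHomogeneous grk := Ideal.IsHomogeneous.inf hmap hmh
  have hdim : ringKrullDim (Polk ⧸ Jk) ≤ ((n + 1 : ℕ) : WithBot ℕ∞) := by
    refine dim_quotient_le _ _ fun Q hQ hle => ?_
    obtain ⟨q, hq, hqQ⟩ := Ideal.exists_minimalPrimes_le hle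
    haveI := hq.1.1
    refine le_trans (ringKrullDim_le_of_surjective (Ideal.Quotient.factor hqQ) (Ideal.Quotient.factor_surjective hqQ)) ?_
    by_cases hqm : q = mIdeal (ResidueField A) N
    · rw [hqm, ringKrullDim_quotient_mIdeal]
      exact_mod_cast (Nat.zero_le (n + 1))
    let x := mkPt q (isHomogeneous_minimalPrimes hJk hq) hqm
    have hc : Order.coheight x ≤ n := Order.coheight_le fun l hl => by
      exact_mod_cast hJ l (by rw [hl]; exact hq.1.2)
    show ringKrullDim (Polk ⧸ x.asHomogeneousIdeal.toIdeal) ≤ _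
    rw [← coheight_eq]
    refine le_trans (add_le_add (WithBot.coe_le_coe.2 hc) le_rfl) (le_of_eq ?_)
    push_cast
    rfl
  obtain ⟨F, G, hF, hG, hGl, hreg, hpr⟩ := exists_forms Jk hJk inf_le_right n hn hdim
  obtain ⟨Fl, hFl, hFlQ⟩ := lift_list (red A N) (fun a => (∃ e, a ∈ gr e) ∧ a ∈ J.toIdeal) F fun f hf => by
    obtain ⟨e, -, hfe, hfJ⟩ := hF f hf
    obtain ⟨a, ha, rfl⟩ := (Ideal.mem_map_iff_of_surjective _ red_surjective).1 hfJ.1
    exact ⟨_, ⟨⟨e, (DirectSum.decompose gr a e).2⟩, J.isHomogeneous e ha⟩,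
      (red_decompose a e).trans (DirectSum.decompose_of_mem_same grk hfe)⟩
  obtain ⟨Gl, hGl', hGlQ⟩ := lift_list (red A N) (fun a => ∃ e, 0 < e ∧ a ∈ gr e) G fun g hg => by
    obtain ⟨e, he, hge⟩ := hG g hg
    obtain ⟨a, rfl⟩ := red_surjective g
    exact ⟨_, ⟨e, he, (DirectSum.decompose gr a e).2⟩,
      (red_decompose a e).trans (DirectSum.decompose_of_mem_same grk hge)⟩
  let I := formsIdeal gr Fl fun a ha => (hFlQ a ha).1
  refine ⟨I, Gl, Ideal.span_le.2 fun a ha => (hFlQ a ha).2, flat_of_pieces I ?_, ?_, fun g hg => ?_, fun i => ?_⟩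
  · refine flat_quotient Fl (fun a ha => (hFlQ a ha).1) fun l₁ f l₂ hsplit x hx => ?_
    have key : ∀ y : Pol, y ∈ Ideal.ofList l₁ ⊔ (maximalIdeal A).map (algebraMap A Pol) ↔
        red A N y ∈ Ideal.ofList (l₁.map (red A N)) := by
      intro y
      rw [← ker_red, RingHom.ker_eq_comap_bot, ← Ideal.comap_map_of_surjective
        (MvPolynomial.map (residue A)) red_surjective, Ideal.mem_comap, Ideal.map_ofList]
      rfl
    rw [key] at hx ⊢
    rw [map_mul] at hx
    exact hreg _ _ (l₂.map (red A N)) (by rw [← hFl, hsplit, List.map_append, List.map_cons]) _ hx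
  · rw [← hGl, ← hGl', List.length_map]
  · obtain ⟨e, he, hge⟩ := hGlQ g hg
    rw [← MvPolynomial.C_eq_zero (σ := Fin (N + 1)), ← decompose_zero_eq]
    exact DirectSum.decompose_of_mem_ne gr hge he.ne'
  · refine X_mem_radical _ ?_ (fun q hq hle => hpr q hq ?_) i
    · exact Ideal.IsHomogeneous.sup I.isHomogeneous (Ideal.homogeneous_span _ _ fun g hg => (hGlQ g hg).elim fun e he => ⟨e, he.2⟩)
    · rw [Ideal.map_sup] at hle
      rw [← hFl, ← hGl']
      show Ideal.ofList (Fl.map (MvPolynomial.map (residue A))) ⊔ Ideal.ofList (Gl.map (MvPolynomial.map (residue A))) ≤ q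
      rw [← Ideal.map_ofList, ← Ideal.map_ofList]
      exact hle

end GrothLib.ProjThick9
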