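import Groth.Agent.Lib.ProjThick9.Lift
import Mathlib.AlgebraicGeometry.Fiber
import Mathlib.RingTheory.Ideal.KrullsHeightTheorem

/-!
# Flat thickenings of closed subschemes of projective space over a local ring
-/

set_option autoImplicit false
set_option linter.all false
set_option backward.isDefEq.respectTransparency false
set_option maxHeartbeats 800000

universe u

open AlgebraicGeometry CategoryTheory MvPolynomial IsLocalRing

noncomputable section

namespace GrothLib.ProjThick9

open GrothLib.GradedAlg GrothLib.ProjDim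

variable {A : Type u} [CommRing A] [IsNoetherianRing A] [IsLocalRing A] {N : ℕ}

local notation "Pol" => MvPolynomial (Fin (N + 1)) A
local notation "gr" => CohB1.polyGrading N A
local notation "grk" => CohB1.polyGrading N (ResidueField A)

/-- A point of the closed fibre as a point over `A`. -/
def redPt (y : ProjectiveSpectrum grk) : Proj gr :=
  ⟨y.asHomogeneousIdeal.comap (red A N), y.isPrime.comap (red A N), fun h => by
    refine (lt_mIdeal y).not_ge fun a ha => ?_
    have h' : (Ideal.span (Set.range (X : Fin (N + 1) → MvPolynomial (Fin (N + 1)) (ResidueField A)))) ≤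
        y.asHomogeneousIdeal.toIdeal := Ideal.span_le.2 (by
      rintro _ ⟨i, rfl⟩
      have := h (HomogeneousIdeal.mem_irrelevant_of_mem gr one_pos (X_mem i))
      change MvPolynomial.map (residue A) (X i) ∈ y.asHomogeneousIdeal.toIdeal at this
      rwa [MvPolynomial.map_X] at this)
    have := h' (sub_C_mem_span a)
    rwa [mem_mIdeal.1 ha, map_zero, sub_zero] at this⟩

theorem comap_C_redPt (y : ProjectiveSpectrum grk) :
    (redPt (A := A) y).asHomogeneousIdeal.toIdeal.comap (C : A →+* Pol) = maximalIdeal A := by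
  ext a
  show MvPolynomial.map (residue A) (C a) ∈ y.asHomogeneousIdeal.toIdeal ↔ _
  rw [MvPolynomial.map_C, ← residue_eq_zero_iff]
  constructor
  · intro h
    by_contra hne
    exact y.isPrime.ne_top (Ideal.eq_top_of_isUnit_mem _ h ((isUnit_iff_ne_zero.2 hne).map C))
  · intro h
    rw [h, map_zero]
    exact zero_mem _

theorem redPt_le {y z : ProjectiveSpectrum grk} (h : y < z) :
    redPt (A := A) y ⤳ redPt z ∧ redPt (A := A) y ≠ redPt z := by
  refine ⟨?_, fun he => h.ne ?_⟩
  · rw [specializes_iff_mem_closure]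
    refine (ProjectiveSpectrum.le_iff_mem_closure gr (redPt y) (redPt z)).1 ?_
    exact Ideal.comap_mono (show y.asHomogeneousIdeal.toIdeal ≤ z.asHomogeneousIdeal.toIdeal from h.le)
  · refine ProjectiveSpectrum.ext (HomogeneousIdeal.ext (Ideal.comap_injective_of_surjective (red A N) red_surjective ?_))
    exact congrArg (fun p : Proj gr => p.asHomogeneousIdeal.toIdeal) he

theorem length_le_top_level (l : LTSeries (ProjectiveSpectrum grk)) : l.length ≤ N := by
  have h1 := coheight_eq (k := ResidueField A) l.head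
  have h2 : ringKrullDim (MvPolynomial (Fin (N + 1)) (ResidueField A) ⧸ l.head.asHomogeneousIdeal.toIdeal) ≤
      ((N + 1 : ℕ) : WithBot ℕ∞) := by
    refine (ringKrullDim_quotient_le _).trans ?_
    rw [MvPolynomial.ringKrullDim_of_isNoetherianRing, ringKrullDim_eq_zero_of_field, zero_add]
    simp
  have h3 : ((l.length : ℕ∞) : WithBot ℕ∞) + 1 ≤ ((N : ℕ∞) : WithBot ℕ∞) + 1 :=
    ((add_le_add (WithBot.coe_le_coe.2 (Order.length_le_coheight le_rfl)) le_rfl).trans h1.le).trans
      (h2.trans (by push_cast; exact le_rfl))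
  have h4 := add_one_le_add_one_iff.1 h3
  exact_mod_cast h4

/-- The bound on the fibres of the thickening. -/
theorem fiber_dim_le (I : HomogeneousIdeal gr) (G : List Pol) (n : ℕ) (hG : G.length = n + 1) (hG0 : ∀ g ∈ G, constantCoeff g = 0)
    (hX : ∀ i, (X i : Pol) ∈ (I.toIdeal ⊔ Ideal.ofList G).radical) (s : ↥(Spec (CommRingCat.of A))) :
    topologicalKrullDim ↥((Proj.map (qhom I) (irrelevant_le_map_qhom I) ≫ CohB1.ProjSpace.toSpec N A).fiber s) ≤ n := by
  classical
  set jI := Proj.map (qhom I) (irrelevant_le_map_qhom I)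
  haveI : IsClosedImmersion jI := isClosedImmersion_map _ _ (qhom_surjective I)
  set f := jI ≫ CohB1.ProjSpace.toSpec N A
  refine topDim_le fun m z hz => ?_
  let p : Fin (m + 1) → Proj gr := fun j => jI.base ((f.fiberι s).base (z j))
  have hemb : Topology.IsEmbedding fun w => jI.base ((f.fiberι s).base w) :=
    jI.isEmbedding.comp (f.fiberι s).isEmbedding
  have hlt : ∀ j : Fin m, (p j.castSucc).asHomogeneousIdeal.toIdeal < (p j.succ).asHomogeneousIdeal.toIdeal := by
    intro j
    refine lt_of_le_of_ne ?_ fun he => (hz j).2 (hemb.injective (ProjectiveSpectrum.ext (HomogeneousIdeal.ext he)))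
    exact (ProjectiveSpectrum.le_iff_mem_closure gr (p j.castSucc) (p j.succ)).2
      (((hz j).1.map hemb.continuous).mem_closure)
  have hI : ∀ j, I.toIdeal ≤ (p j).asHomogeneousIdeal.toIdeal := fun j =>
    (mem_range_map_qhom I _).1 ⟨_, rfl⟩
  have hs : ∀ j, (p j).asHomogeneousIdeal.toIdeal.comap (C : A →+* Pol) = s.asIdeal := fun j => by
    rw [← toSpec_asIdeal]
    have : f.base ((f.fiberι s).base (z j)) = s := by
      have h := Set.mem_range_self (f := (f.fiberι s).base) (z j)
      rwa [Scheme.Hom.range_fiberι] at h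
    exact congrArg PrimeSpectrum.asIdeal this
  let M0 : Ideal Pol := s.asIdeal.comap constantCoeff
  have hC : ∀ (q : Ideal Pol) (b : Pol), Ideal.span (Set.range X) ≤ q → (b ∈ q ↔ C (constantCoeff b) ∈ q) :=
    fun q b hq => ⟨fun h => by simpa using Ideal.sub_mem q h (hq (sub_C_mem_span b)),
      fun h => by simpa using Ideal.add_mem q (hq (sub_C_mem_span b)) h⟩
  have hXM : Ideal.span (Set.range (X : Fin (N + 1) → Pol)) ≤ M0 := by
    rw [Ideal.span_le]
    rintro _ ⟨i, rfl⟩
    show constantCoeff (X i) ∈ s.asIdeal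
    simp
  have hpM : ∀ j, (p j).asHomogeneousIdeal.toIdeal ≤ M0 := fun j b hb => by
    have h := (p j).asHomogeneousIdeal.isHomogeneous 0 hb
    rw [decompose_zero_eq] at h
    rwa [← Ideal.mem_comap, hs] at h
  have hpM' : ∀ j, (p j).asHomogeneousIdeal.toIdeal < M0 := fun j => lt_of_le_of_ne (hpM j) fun he => by
    obtain ⟨i, hi⟩ := exists_X_notMem (p j)
    exact hi (he ▸ hXM (Ideal.subset_span ⟨i, rfl⟩))
  let Jb : Ideal Pol := I.toIdeal ⊔ s.asIdeal.map C
  have hJ : ∀ j, Jb ≤ (p j).asHomogeneousIdeal.toIdeal := fun j =>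
    sup_le (hI j) (Ideal.map_le_iff_le_comap.2 (hs j).ge)
  have hJM : Jb ≤ M0 := (hJ 0).trans (hpM 0)
  let π := Ideal.Quotient.mk Jb
  have hinv : ∀ q : Ideal Pol, Jb ≤ q → (q.map π).comap π = q := fun q hq => by
    rw [Ideal.comap_map_of_surjective' _ Ideal.Quotient.mk_surjective, Ideal.mk_ker, sup_eq_left.2 hq]
  haveI : M0.IsPrime := s.2.comap _
  haveI hM0' : (M0.map π).IsPrime := Ideal.isPrime_map_quotientMk_of_isPrime hJM
  let P' : Fin (m + 1) → PrimeSpectrum (Pol ⧸ Jb) := fun j =>
    ⟨(p j).asHomogeneousIdeal.toIdeal.map π,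
      (haveI := (p j).isPrime; Ideal.isPrime_map_quotientMk_of_isPrime (hJ j))⟩
  have hmono : ∀ (q q' : Ideal Pol), Jb ≤ q → Jb ≤ q' → q < q' → q.map π < q'.map π := fun q q' h h' hlt' =>
    lt_of_le_of_ne (Ideal.map_mono hlt'.le) fun he => hlt'.ne (by rw [← hinv q h, he, hinv q' h'])
  let l : LTSeries (PrimeSpectrum (Pol ⧸ Jb)) :=
    { length := m
      toFun := P'
      step := fun j => hmono _ _ (hJ _) (hJ _) (hlt j) }
  let l' := l.snoc ⟨M0.map π, hM0'⟩ (show l.last < _ from hmono _ _ (hJ _) hJM (hpM' (Fin.last m)))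
  have h1 : ((m + 1 : ℕ) : ℕ∞) ≤ (M0.map π).height := by
    rw [show M0.map π = (⟨M0.map π, hM0'⟩ : PrimeSpectrum (Pol ⧸ Jb)).asIdeal from rfl,
      PrimeSpectrum.height_eq_orderHeight]
    have := Order.length_le_height (p := l') (x := (⟨M0.map π, hM0'⟩ : PrimeSpectrum (Pol ⧸ Jb)))
      (by simp [l'])
    simpa [l', l] using this
  have hmin : M0.map π ∈ (Ideal.span ((G.toFinset.image π : Finset (Pol ⧸ Jb)) : Set (Pol ⧸ Jb))).minimalPrimes := by
    refine ⟨⟨hM0', Ideal.span_le.2 ?_⟩, fun R ⟨hR, hGR⟩ hRle => ?_⟩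
    · intro b hb
      obtain ⟨a, ha, rfl⟩ := Finset.mem_image.1 (Finset.mem_coe.1 hb)
      refine Ideal.mem_map_of_mem π ?_
      show constantCoeff a ∈ s.asIdeal
      rw [hG0 a (List.mem_toFinset.1 ha)]
      exact zero_mem _
    · have hle : R.comap π ≤ M0 := hinv M0 hJM ▸ Ideal.comap_mono hRle
      have hge : Jb ≤ R.comap π := fun a ha => by
        show π a ∈ R
        rw [Ideal.Quotient.eq_zero_iff_mem.2 ha]
        exact R.zero_mem
      have hGc : Ideal.ofList G ≤ R.comap π := Ideal.span_le.2 fun a ha =>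
        hGR (Ideal.subset_span (Finset.mem_coe.2 (Finset.mem_image_of_mem π (List.mem_toFinset.2 ha))))
      haveI := hR.comap π
      have hXR : Ideal.span (Set.range (X : Fin (N + 1) → Pol)) ≤ R.comap π := Ideal.span_le.2 (by
        rintro _ ⟨i, rfl⟩
        exact (hR.comap π).radical_le_iff.2 (sup_le (le_sup_left.trans hge) hGc) (hX i))
      refine Ideal.map_le_iff_le_comap.2 fun b hb => ?_
      rw [hC _ b hXR]
      exact hge (Ideal.mem_sup_right (Ideal.mem_map_of_mem C hb))
  have h2 : (M0.map π).height ≤ ((n + 1 : ℕ) : ℕ∞) :=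
    (Ideal.height_le_card_of_mem_minimalPrimes_span_finset hmin).trans (by
      exact_mod_cast Finset.card_image_le.trans ((List.toFinset_card_le G).trans hG.le))
  have h3 := h1.trans h2
  norm_cast at h3
  omega

/-- **The thickening**, in `Proj` of the polynomial ring. -/
theorem exists_thickening (n : ℕ) {X : Scheme.{u}} (i : X ⟶ Proj gr) [IsClosedImmersion i]
    (hdim : ∀ s : ↥(Spec (CommRingCat.of A)),
      topologicalKrullDim ↥((i ≫ CohB1.ProjSpace.toSpec N A).fiber s) ≤ n) :
    ∃ (Z : Scheme.{u}) (j : Z ⟶ Proj gr) (g : X ⟶ Z),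
      IsClosedImmersion j ∧ IsClosedImmersion g ∧ g ≫ j = i ∧
      Flat (j ≫ CohB1.ProjSpace.toSpec N A) ∧
      ∀ s : ↥(Spec (CommRingCat.of A)),
        topologicalKrullDim ↥((j ≫ CohB1.ProjSpace.toSpec N A).fiber s) ≤ n := by
  classical
  let S : Finset Pol := Finset.univ.image MvPolynomial.X
  have hs1 : ∀ f ∈ S, f ∈ gr 1 := fun f hf => by
    obtain ⟨a, -, rfl⟩ := Finset.mem_image.1 hf
    exact X_mem a
  let J : HomogeneousIdeal gr := subschemeIdeal i.ker S hs1
  set jJ := Proj.map (qhom J) (irrelevant_le_map_qhom J) with hjJ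
  haveI : IsClosedImmersion jJ := isClosedImmersion_map _ _ (qhom_surjective J)
  have hker : jJ.ker = i.ker := ker_map_qhom_eq i.ker S hs1 irrelevant_eq_span
  have hrange : Set.range i.base = Set.range jJ.base := by
    rw [← i.isClosedEmbedding.isClosed_range.closure_eq, ← jJ.isClosedEmbedding.isClosed_range.closure_eq,
      ← Scheme.Hom.support_ker, ← Scheme.Hom.support_ker, hker]
  let s₀ : ↥(Spec (CommRingCat.of A)) := ⟨maximalIdeal A, inferInstance⟩
  set f := i ≫ CohB1.ProjSpace.toSpec N A with hf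
  obtain ⟨I, G, hIJ, hflat, hGl, hG0, hX⟩ := exists_forms_over J (min n N) (min_le_right n N) fun l hl => by
    refine le_min ?_ (length_le_top_level l)
    have hJl : ∀ j, J.toIdeal ≤ (redPt (A := A) (l j)).asHomogeneousIdeal.toIdeal := fun j => by
      refine Ideal.map_le_iff_le_comap.1 (?_ : J.toIdeal.map (red A N) ≤ (l j).asHomogeneousIdeal.toIdeal)
      have h := le_trans hl (show l.head.asHomogeneousIdeal.toIdeal ≤ (l j).asHomogeneousIdeal.toIdeal from LTSeries.head_le l j)
      exact ((l j).isPrime.inf_le.1 h).resolve_right fun h' => (lt_mIdeal (l j)).not_ge h'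
    have hx : ∀ j, ∃ x : X, i.base x = redPt (A := A) (l j) := fun j => by
      have := (mem_range_map_qhom J _).2 (hJl j)
      rw [← hrange] at this
      exact this
    choose x hx using hx
    have hfx : ∀ j, f.base (x j) = s₀ := fun j => by
      refine PrimeSpectrum.ext ?_
      show ((CohB1.ProjSpace.toSpec N A).base (i.base (x j))).asIdeal = maximalIdeal A
      rw [hx, toSpec_asIdeal, comap_C_redPt]
    have hz : ∀ j, ∃ z : f.fiber s₀, (f.fiberι s₀).base z = x j := fun j => by
      have : x j ∈ Set.range (f.fiberι s₀).base := by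
        rw [Scheme.Hom.range_fiberι]
        exact hfx j
      exact this
    choose z hz using hz
    have hemb : Topology.IsEmbedding fun w => i.base ((f.fiberι s₀).base w) :=
      i.isEmbedding.comp (f.fiberι s₀).isEmbedding
    have := (length_le_topDim z fun j => by
      have h := redPt_le (A := A) (l.step j)
      refine ⟨hemb.isInducing.specializes_iff.1 ?_, fun he => h.2 ?_⟩
      · rw [hz, hz, hx, hx]; exact h.1
      · show redPt (A := A) (l j.castSucc) = redPt (l j.succ)
        rw [← hx, ← hx, ← hz, ← hz, he]).trans (hdim s₀)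
    exact_mod_cast this
  set jI := Proj.map (qhom I) (irrelevant_le_map_qhom I) with hjI
  haveI : IsClosedImmersion jI := isClosedImmersion_map _ _ (qhom_surjective I)
  have hle : jI.ker ≤ i.ker := by
    let ψ : GradedRingHom (qgr I) (qgr J) :=
      { toRingHom := Ideal.Quotient.factor hIJ
        map_mem := fun {d x} hx => by
          obtain ⟨a, ha, rfl⟩ := (mem_qgr_iff I _ _).mp hx
          exact (mem_qgr_iff J _ _).mpr ⟨a, ha, (Ideal.Quotient.factor_mk hIJ a).symm⟩ }
    have hψ : HomogeneousIdeal.irrelevant (qgr J) ≤ (HomogeneousIdeal.irrelevant (qgr I)).map ψ := by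
      rw [HomogeneousIdeal.irrelevant_le]
      intro d hd y hy
      obtain ⟨a, ha, rfl⟩ := (mem_qgr_iff J _ _).mp hy
      rw [← Ideal.Quotient.factor_mk hIJ a]
      exact Ideal.mem_map_of_mem ψ (HomogeneousIdeal.mem_irrelevant_of_mem _ hd ((qhom I).2 ha))
    have hcomp : Proj.map ψ hψ ≫ jI = jJ := by
      rw [hjI, hjJ, ← Proj.map_comp]
      congr 1
    rw [← hker, ← hcomp]
    exact Scheme.Hom.le_ker_comp _ _
  let g := IsClosedImmersion.lift jI i hle
  have hg : g ≫ jI = i := IsClosedImmersion.lift_fac _ _ _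
  haveI : IsClosedImmersion (g ≫ jI) := hg ▸ inferInstance
  haveI := hflat
  refine ⟨_, jI, g, inferInstance, IsClosedImmersion.of_comp g jI, hg, flat_map_qhom I, fun s => ?_⟩
  exact le_trans (fiber_dim_le I G (min n N) hGl hG0 hX s) (by exact_mod_cast min_le_left n N)

end GrothLib.ProjThick9
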